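import Cfsg.Agent.Lib.SpectrumSp8.Models
import Cfsg.Agent.Lib.SpectrumSp8.Upper
import Cfsg.Agent.Lib.Classes.QuadDisc
import Cfsg.Agent.Lib.ClassicalForms.Ortho.Standard
import Cfsg.Agent.Lib.Forms.Dickson
import Cfsg.Agent.Lib.CharDegrees.SpElements

/-!
The common spectrum of `PSp 4`, of the minus orthogonal group in dimension eight and of extensions of the latter's
index two subgroup by modules.
-/

set_option autoImplicit false

namespace CfsgLib.SpectrumSp8

open QuadraticMap Module Matrix CfsgLib.OrthGen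

universe u

variable {F : Type u} [Field F] [Fintype F] [CharP F 2]

local notation "q" => Fintype.card F
local notation "ι8" => ((Fin 3 ⊕ Fin 3) ⊕ Fin 2)

/-- The candidate spectrum. -/
def spec (F : Type u) [Fintype F] : Set ℕ := {n | ∃ k : Fin 12, n ∣ maxExp (Fintype.card F) k}

/-- A finite group has the candidate spectrum as soon as both inequalities hold for the exponents. -/
theorem range_orderOf_eq {G : Type*} [Group G] [Finite G]
    (hup : ∀ x : G, ∃ k, x ^ maxExp q k = 1) (hlow : ∀ k, ∃ x : G, maxExp q k ∣ orderOf x) :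
    Set.range (orderOf : G → ℕ) = spec F := by
  ext n
  constructor
  · rintro ⟨x, rfl⟩
    obtain ⟨k, hk⟩ := hup x
    exact ⟨k, orderOf_dvd_of_pow_eq_one hk⟩
  · rintro ⟨k, hk⟩
    obtain ⟨x, hx⟩ := hlow k
    exact ⟨x ^ (orderOf x / n), orderOf_pow_orderOf_div (orderOf_pos x).ne' (hk.trans hx)⟩

theorem a_ne_zero {a b : F} (h : ClassicalForms.Aniso a b) : a ≠ 0 := by
  rintro rfl
  obtain ⟨z, hz⟩ := (PerfectRing.bijective_frobenius (R := F) (p := 2)).2 b
  refine one_ne_zero (h z 1 ?_).2
  simp only [frobenius_def] at hz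
  rw [zero_mul, zero_mul, add_zero, one_pow, mul_one, hz, CharTwo.add_self_eq_zero]

theorem det_minus_ne_zero {a b : F} (h : ClassicalForms.Aniso a b) :
    (Classes.minusMatrix 3 a b).det ≠ 0 := by
  rw [Classes.det_minusMatrix]
  refine mul_ne_zero (pow_ne_zero _ (neg_ne_zero.mpr one_ne_zero)) ?_
  rw [show (4 : F) = 2 * 2 by norm_num, CharTwo.two_eq_zero, zero_mul, zero_mul, zero_sub, neg_ne_zero]
  exact pow_ne_zero _ (a_ne_zero h)

theorem polar_qMinus (a b : F) (u v : ι8 → F) :
    polar (ClassicalForms.qMinus 3 F a b) u v = u ⬝ᵥ Classes.minusMatrix 3 a b *ᵥ v := by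
  rw [← Classes.polar_quadFormMinus]
  simp only [polar, ClassicalForms.qMinus_apply]

theorem nondegenerate_qMinus {a b : F} (h : ClassicalForms.Aniso a b) :
    (polarBilin (ClassicalForms.qMinus 3 F a b)).Nondegenerate := by
  have hl : ∀ u : ι8 → F, (∀ v, polar (ClassicalForms.qMinus 3 F a b) u v = 0) → u = 0 := fun u hu => by
    by_contra hne
    refine det_minus_ne_zero h (Matrix.exists_vecMul_eq_zero_iff.mp ⟨u, hne, ?_⟩)
    funext j
    have := hu (Pi.single j 1)
    rw [polar_qMinus, Matrix.dotProduct_mulVec, dotProduct_single, mul_one] at this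
    exact this
  exact ⟨hl, fun y hy => hl y fun x => (polar_comm _ y x).trans (hy x)⟩

/-- A form with the right Gauss sum is a standard minus form. -/
theorem exists_equiv_minus {a b : F} (hab : ClassicalForms.Aniso a b) (Q : QuadraticForm F (Fin 8 → F))
    (hQ : (polarBilin Q).Nondegenerate) (hG : gsum Q = -(q : ℤ) ^ 4) :
    ∃ E : (Fin 8 → F) ≃ₗ[F] (ι8 → F), ∀ v, Q v = Cfsg.quadFormMinus 3 F a b (E v) := by
  have ha := a_ne_zero hab
  rcases Classes.exists_equiv_even (m := 4) (by norm_num) (by simp) Q hQ with ⟨E, hE⟩ | ⟨E, ζ, hζ, hE⟩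
  · exfalso
    have h1 : gsum Q = (q : ℤ) ^ 4 := by
      rw [← sum_chr_plus (F := F) 4, gsum]
      exact Fintype.sum_equiv E.toEquiv _ _ fun v => by rw [hE]; rfl
    have h2 : (0 : ℤ) < (q : ℤ) ^ 4 := pow_pos (by exact_mod_cast Fintype.card_pos) 4
    omega
  · have hζ' : ∀ t : F, t ^ 2 + t + b / a ^ 2 ≠ 0 := fun t ht =>
      one_ne_zero (hab (a * t) 1 (by
        field_simp at ht
        linear_combination ht)).2
    obtain ⟨g, hg⟩ := Classes.minus_isometric 3 hζ hζ'
    -- rescale the last coordinate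
    let d : ι8 → Fˣ := Sum.elim (fun _ => 1) ![1, Units.mk0 a⁻¹ (inv_ne_zero ha)]
    let S : (ι8 → F) ≃ₗ[F] (ι8 → F) :=
      LinearEquiv.piCongrRight fun i => LinearEquiv.smulOfUnit (R := F) (M := F) (d i)
    have hS : ∀ z i, S z i = (d i : F) * z i := fun z i => rfl
    refine ⟨E.trans (g.trans S), fun v => ?_⟩
    rw [hE, LinearEquiv.trans_apply, LinearEquiv.trans_apply]
    rw [← hg]
    simp only [Cfsg.quadFormMinus, hS]
    simp [d]
    field_simp

/-- The matrix of a linear automorphism as an isometry. -/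
theorem exists_isometry_act {ι : Type} [Fintype ι] [DecidableEq ι] (Q : QuadraticForm F (ι → F))
    (g : (ι → F) ≃ₗ[F] (ι → F)) (hg : ∀ x, Q (g x) = Q x) :
    ∃ h : Cfsg.isometryGroup F (⇑Q), ∀ x, act Q h x = g x := by
  refine ⟨mkIso Q (LinearMap.toMatrix' (g : (ι → F) →ₗ[F] ι → F))
    (LinearMap.toMatrix' (g.symm : (ι → F) →ₗ[F] ι → F)) ?_ ?_ (fun x => by
      rw [LinearMap.toMatrix'_mulVec]; exact hg x), fun x => ?_⟩
  · rw [← LinearMap.toMatrix'_comp]; simp
  · rw [← LinearMap.toMatrix'_comp]; simp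
  · exact LinearMap.toMatrix'_mulVec _ x

theorem act_pow {ι : Type} [Fintype ι] [DecidableEq ι] {Q : QuadraticForm F (ι → F)}
    {h : Cfsg.isometryGroup F (⇑Q)} {g : (ι → F) ≃ₗ[F] (ι → F)} (hg : ∀ x, act Q h x = g x) (n : ℕ)
    (x : ι → F) : act Q (h ^ n) x = (g ^ n) x := by
  induction n with
  | zero => rw [pow_zero, pow_zero, act_one]; rfl
  | succ n ih => rw [pow_succ', pow_succ', act_mul, ih, hg]; rfl

theorem orderOf_act {ι : Type} [Fintype ι] [DecidableEq ι] {Q : QuadraticForm F (ι → F)}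
    {h : Cfsg.isometryGroup F (⇑Q)} {g : (ι → F) ≃ₗ[F] (ι → F)} (hg : ∀ x, act Q h x = g x) :
    orderOf h = orderOf g :=
  orderOf_eq_orderOf_iff.mpr fun n =>
    ⟨fun e => LinearEquiv.ext fun x => by rw [← act_pow hg, e, act_one]; rfl,
      fun e => ext_act fun x => by rw [act_pow hg, e, act_one]; rfl⟩

theorem pres_isometry {a b : F} (hab : ClassicalForms.Aniso a b)
    (h : Cfsg.isometryGroup F (⇑(ClassicalForms.qMinus 3 F a b))) :
    Pres ((h : Matrix.GeneralLinearGroup ι8 F) : Matrix ι8 ι8 F) (Classes.minusMatrix 3 a b) := by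
  refine pres_of (isUnit_iff_ne_zero.mpr (det_minus_ne_zero hab)) ?_
  set M := ((h : Matrix.GeneralLinearGroup ι8 F) : Matrix ι8 ι8 F)
  refine Matrix.toBilin'.injective (LinearMap.ext₂ fun u v => ?_)
  have h1 := pf_act h u v
  simp only [pf, polar_qMinus] at h1
  rw [Matrix.toBilin'_apply', Matrix.toBilin'_apply', mul_assoc, ← Matrix.mulVec_mulVec,
    ← Matrix.mulVec_mulVec, Matrix.dotProduct_mulVec, Matrix.vecMul_transpose]
  exact h1

/-- The spectrum of the orthogonal group. -/
theorem range_orderOf_isometryGroup {a b : F} (hab : ClassicalForms.Aniso a b) :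
    Set.range (orderOf : ↥(Cfsg.isometryGroup F (Cfsg.quadFormMinus 3 F a b)) → ℕ) = spec F := by
  have e : Cfsg.quadFormMinus 3 F a b = ⇑(ClassicalForms.qMinus 3 F a b) :=
    funext fun v => (ClassicalForms.qMinus_apply 3 a b v).symm
  rw [e]
  refine range_orderOf_eq (fun x => ?_) (fun k => ?_)
  · obtain ⟨k, hk⟩ := exists_pow_eq_one (by simp) (pres_isometry hab x)
    exact ⟨k, Subtype.ext (Units.ext (by simpa using hk))⟩
  · obtain ⟨Q, g, hQ, hG, hg, hk⟩ := (models (F := F) k).1
    obtain ⟨E, hE⟩ := exists_equiv_minus hab Q hQ hG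
    obtain ⟨h, hh⟩ := exists_isometry_act (ClassicalForms.qMinus 3 F a b) (conjAut E g) (fun x => by
      obtain ⟨v, rfl⟩ := E.surjective x
      rw [conjAut_apply, ClassicalForms.qMinus_apply, ClassicalForms.qMinus_apply, ← hE, ← hE, hg])
    refine ⟨h, ?_⟩
    rwa [orderOf_act hh, MulEquiv.orderOf_eq]

/-- The symplectic coordinates. -/
def toSymp : ι8 ≃ Fin 4 ⊕ Fin 4 where
  toFun := Sum.elim (Sum.elim (fun i => .inl i.castSucc) (fun i => .inr i.castSucc))
    ![.inl (Fin.last 3), .inr (Fin.last 3)]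
  invFun := Sum.elim ![.inl (.inl 0), .inl (.inl 1), .inl (.inl 2), .inr 0]
    ![.inl (.inr 0), .inl (.inr 1), .inl (.inr 2), .inr 1]
  left_inv := by decide
  right_inv := by decide

theorem polar_minus_one_symp (ζ : F) (u v : ι8 → F) :
    polar (ClassicalForms.qMinus 3 F 1 ζ) u v =
      (fun i => u (toSymp.symm i)) ⬝ᵥ Matrix.J (Fin 4) F *ᵥ (fun i => v (toSymp.symm i)) := by
  simp only [polar, ClassicalForms.qMinus_apply, Cfsg.quadFormMinus, Matrix.J, Matrix.fromBlocks_mulVec,
    dotProduct, Fintype.sum_sum_type, Sum.elim_inl, Sum.elim_inr, Matrix.zero_mulVec, Matrix.neg_mulVec,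
    Matrix.one_mulVec, zero_add, add_zero, Fin.sum_univ_succ, Fin.sum_univ_zero, CharTwo.neg_eq, Pi.add_apply,
    CharTwo.add_sq, CharTwo.sub_eq_add, Function.comp_apply]
  simp [toSymp, CharTwo.two_eq_zero]
  ring_nf
  simp [CharTwo.two_eq_zero]

theorem center_symp (A : Matrix.symplecticGroup (Fin 4) F)
    (hA : A ∈ Subgroup.center (Matrix.symplecticGroup (Fin 4) F)) : A = 1 := by
  obtain ⟨c, hc⟩ := CharDegrees.sp_center_scalar hA
  have hmem := A.2
  rw [hc, SymplecticGroup.mem_iff', Matrix.scalar_apply, diagonal_transpose] at hmem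
  have h2 := congrFun (congrFun hmem (Sum.inr 0)) (Sum.inl 0)
  simp [Matrix.J, Matrix.diagonal_mul, Matrix.mul_diagonal] at h2
  have hc1 : c = 1 := by
    refine frobenius_inj F 2 ?_
    simp only [frobenius_def, one_pow]
    linear_combination h2
  refine Subtype.ext ?_
  rw [hc, hc1, map_one]
  rfl

/-- The spectrum of the symplectic group. -/
theorem range_orderOf_PSp : Set.range (orderOf : Cfsg.PSp 4 F → ℕ) = spec F := by
  refine range_orderOf_eq (fun x => ?_) (fun k => ?_)
  · obtain ⟨A, rfl⟩ := QuotientGroup.mk_surjective x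
    obtain ⟨k, hk⟩ := exists_pow_eq_one (by simp)
      (pres_of (M := (A : Matrix (Fin 4 ⊕ Fin 4) (Fin 4 ⊕ Fin 4) F)) (Matrix.isUnit_det_J (Fin 4) F)
        (SymplecticGroup.mem_iff'.mp A.2))
    exact ⟨k, by rw [← QuotientGroup.mk_pow, show A ^ maxExp q k = 1 from Subtype.ext (by simpa using hk)]; rfl⟩
  · obtain ⟨Q, g, hQ, hG, hg, hk⟩ := (models (F := F) k).1
    obtain ⟨ζ, hζ⟩ := exists_noroot F
    have hab : ClassicalForms.Aniso (1 : F) ζ := fun z₁ z₂ h => Classes.anisotropic_of_noroot hζ z₁ z₂ h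
    obtain ⟨E, hE⟩ := exists_equiv_minus hab Q hQ hG
    let E' : (Fin 8 → F) ≃ₗ[F] (Fin 4 ⊕ Fin 4 → F) := E.trans (LinearEquiv.funCongrLeft F F toSymp.symm)
    set f := conjAut E' g
    have hpol : ∀ x y : Fin 4 ⊕ Fin 4 → F,
        (f x) ⬝ᵥ Matrix.J (Fin 4) F *ᵥ (f y) = x ⬝ᵥ Matrix.J (Fin 4) F *ᵥ y := by
      intro x y
      obtain ⟨u, rfl⟩ := E'.surjective x
      obtain ⟨v, rfl⟩ := E'.surjective y
      have key : ∀ u v, E' u ⬝ᵥ Matrix.J (Fin 4) F *ᵥ E' v = polar Q u v := fun u v => by
        rw [show polar Q u v = polar (ClassicalForms.qMinus 3 F 1 ζ) (E u) (E v) by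
          simp only [polar, ClassicalForms.qMinus_apply, ← map_add, ← hE], polar_minus_one_symp]
        rfl
      simp only [f, conjAut_apply, key]
      simp only [polar, ← map_add, hg]
    let M := LinearMap.toMatrix' (f : (Fin 4 ⊕ Fin 4 → F) →ₗ[F] (Fin 4 ⊕ Fin 4 → F))
    have hM : ∀ x, M *ᵥ x = f x := fun x => LinearMap.toMatrix'_mulVec _ x
    have hmem : M ∈ Matrix.symplecticGroup (Fin 4) F := by
      rw [SymplecticGroup.mem_iff']
      refine Matrix.toBilin'.injective (LinearMap.ext₂ fun u v => ?_)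
      rw [Matrix.toBilin'_apply', Matrix.toBilin'_apply', mul_assoc, ← Matrix.mulVec_mulVec,
        ← Matrix.mulVec_mulVec, Matrix.dotProduct_mulVec, Matrix.vecMul_transpose, hM, hM]
      exact hpol u v
    let A : Matrix.symplecticGroup (Fin 4) F := ⟨M, hmem⟩
    refine ⟨QuotientGroup.mk A, hk.trans ?_⟩
    rw [← MulEquiv.orderOf_eq (conjAut E') g]
    refine orderOf_dvd_of_pow_eq_one ?_
    have hA := pow_orderOf_eq_one (QuotientGroup.mk A : Cfsg.PSp 4 F)
    rw [← QuotientGroup.mk_pow, QuotientGroup.eq_one_iff] at hA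
    have h1 := congrArg (fun B : Matrix.symplecticGroup (Fin 4) F =>
      (B : Matrix (Fin 4 ⊕ Fin 4) (Fin 4 ⊕ Fin 4) F)) (center_symp _ hA)
    refine LinearEquiv.ext fun x => ?_
    have hp : ∀ (n : ℕ) (x : Fin 4 ⊕ Fin 4 → F), (M ^ n) *ᵥ x = (f ^ n) x := fun n => by
      induction n with
      | zero => intro x; simp
      | succ n ih => intro x; rw [pow_succ', pow_succ', ← Matrix.mulVec_mulVec, ih, hM]; rfl
    rw [← hp]
    simp only [SubmonoidClass.coe_pow, OneMemClass.coe_one, A] at h1
    rw [h1, Matrix.one_mulVec]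
    rfl

/-- A carrier in the lowest universe without any structure. -/
structure Box (n : ℕ) : Type where
  /-- the underlying index -/
  val : Fin n

/-- The module action of a subgroup of isometries on several copies of the space. -/
noncomputable def actMul {ι : Type} [Fintype ι] [DecidableEq ι] (Q : QuadraticForm F (ι → F))
    (G : Subgroup (Cfsg.isometryGroup F (⇑Q))) (m : ℕ) : G →* MulAut (Multiplicative (Fin m → ι → F)) where
  toFun h :=
    { toFun := fun w => Multiplicative.ofAdd fun j => act Q h.1 (w.toAdd j)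
      invFun := fun w => Multiplicative.ofAdd fun j => act Q h.1⁻¹ (w.toAdd j)
      left_inv := fun w => by
        apply Multiplicative.toAdd.injective
        funext j
        exact act_inv_act h.1 _
      right_inv := fun w => by
        apply Multiplicative.toAdd.injective
        funext j
        exact act_act_inv h.1 _
      map_mul' := fun v w => by
        apply Multiplicative.toAdd.injective
        funext j
        exact act_add h.1 _ _ }
  map_one' := MulEquiv.ext fun w => by
    apply Multiplicative.toAdd.injective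
    funext j
    exact act_one _
  map_mul' g h := MulEquiv.ext fun w => by
    apply Multiplicative.toAdd.injective
    funext j
    exact act_mul g.1 h.1 _

theorem semidirect_pow {ι : Type} [Fintype ι] [DecidableEq ι] {Q : QuadraticForm F (ι → F)}
    {G : Subgroup (Cfsg.isometryGroup F (⇑Q))} {m : ℕ}
    (x : Multiplicative (Fin m → ι → F) ⋊[actMul Q G m] G) (n : ℕ) :
    (x ^ n).right = x.right ^ n ∧
      ∀ j, (x ^ n).left.toAdd j = ∑ i ∈ Finset.range n, act Q (x.right.1 ^ i) (x.left.toAdd j) := by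
  induction n with
  | zero => exact ⟨rfl, fun j => rfl⟩
  | succ n ih =>
    refine ⟨by rw [pow_succ, SemidirectProduct.mul_right, ih.1, pow_succ], fun j => ?_⟩
    rw [pow_succ, SemidirectProduct.mul_left, toAdd_mul, Pi.add_apply, ih.2 j, Finset.sum_range_succ, ih.1]
    rfl

set_option maxHeartbeats 1000000 in
/-- Arbitrarily large groups with the same spectrum. -/
theorem exists_large (M : ℕ) :
    ∃ (H : Type) (_ : Group H) (_ : Fintype H), M < Fintype.card H ∧
      Set.range (orderOf : H → ℕ) = spec F := by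
  classical
  obtain ⟨ζ, hζ⟩ := exists_noroot F
  have hab : ClassicalForms.Aniso (1 : F) ζ := fun z₁ z₂ h => Classes.anisotropic_of_noroot hζ z₁ z₂ h
  let Q := ClassicalForms.qMinus 3 F 1 ζ
  have hnd : (polarBilin Q).Nondegenerate := nondegenerate_qMinus hab
  have hgen : Forms.reflClosure Q = ⊤ := Forms.reflClosure_eq_top hnd (Or.inr (by simp))
  let G := (Forms.dicksonHom hnd hgen).ker
  let X := Multiplicative (Fin (M + 1) → ι8 → F) ⋊[actMul Q G (M + 1)] G
  haveI : Finite (Multiplicative (Fin (M + 1) → ι8 → F)) :=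
    Finite.of_equiv _ Multiplicative.ofAdd
  haveI : Finite X := Finite.of_equiv _ SemidirectProduct.equivProd.symm
  obtain ⟨n, ⟨e⟩⟩ := Finite.exists_equiv_fin X
  let c : Box n ≃ X := (⟨Box.val, Box.mk, fun _ => rfl, fun _ => rfl⟩ : Box n ≃ Fin n).trans e.symm
  letI : Group (Box n) := c.group
  letI : Fintype (Box n) := Fintype.ofEquiv (Fin n) ⟨Box.mk, Box.val, fun _ => rfl, fun _ => rfl⟩
  let me : Box n ≃* X := { c with map_mul' := fun a b => c.apply_symm_apply (c a * c b) }
  refine ⟨Box n, inferInstance, inferInstance, ?_, ?_⟩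
  · rw [show Fintype.card (Box n) = Nat.card X from Fintype.card_eq_nat_card.trans (Nat.card_congr c),
      SemidirectProduct.card]
    refine lt_of_lt_of_le ?_ (Nat.le_mul_of_pos_right _ Nat.card_pos)
    rw [Nat.card_congr Multiplicative.toAdd, Nat.card_fun, Nat.card_fin]
    exact (Nat.lt_two_pow_self.trans_le (Nat.pow_le_pow_right (by norm_num) (Nat.le_succ M))).trans_le
      (Nat.pow_le_pow_left Finite.one_lt_card _)
  · rw [show (orderOf : Box n → ℕ) = (orderOf : X → ℕ) ∘ me from funext fun x => (MulEquiv.orderOf_eq me x).symm,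
      EquivLike.range_comp]
    refine range_orderOf_eq (fun x => ?_) (fun k => ?_)
    · have hev : Even (Module.finrank F (LinearMap.range (Forms.subOne x.right.1))) := by
        have h1 : Forms.dicksonSign x.right.1 = 1 := x.right.2
        exact (neg_one_pow_eq_one_iff_even (by decide)).mp h1
      obtain ⟨k, hk, hs⟩ := exists_pow_eq_one_sum (by simp) (pres_isometry hab x.right.1) hev
      refine ⟨k, ?_⟩
      obtain ⟨h1, h2⟩ := semidirect_pow x (maxExp q k)
      refine SemidirectProduct.ext ?_ ?_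
      · apply Multiplicative.toAdd.injective
        funext j
        rw [h2]
        have hact : ∀ (i : ℕ) (y : ι8 → F), act Q (x.right.1 ^ i) y =
            (((x.right.1 : Matrix.GeneralLinearGroup ι8 F) : Matrix ι8 ι8 F) ^ i) *ᵥ y := fun i y => by
          show (((x.right.1 ^ i : Cfsg.isometryGroup F (⇑Q)) : Matrix.GeneralLinearGroup ι8 F) :
            Matrix ι8 ι8 F) *ᵥ y = _
          simp
        simp only [hact, ← Matrix.sum_mulVec, hs, Matrix.zero_mulVec]
        rfl
      · rw [h1]
        exact Subtype.ext (Subtype.ext (Units.ext (by simpa using hk)))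
    · obtain ⟨Q', g, v, hQ', hG, hg, hev, hk⟩ := (models (F := F) k).2
      obtain ⟨E, hE⟩ := exists_equiv_minus hab Q' hQ' hG
      obtain ⟨h, hh⟩ := exists_isometry_act Q (conjAut E g) (fun x => by
        obtain ⟨y, rfl⟩ := E.surjective x
        rw [conjAut_apply, ClassicalForms.qMinus_apply, ClassicalForms.qMinus_apply, ← hE, ← hE, hg])
      have hmem : h ∈ G := by
        show Forms.dicksonSign h = 1
        rw [Forms.dicksonSign, show Forms.subOne h = (conjAut E g : (ι8 → F) →ₗ[F] ι8 → F) - LinearMap.id from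
          LinearMap.ext fun x => by rw [Forms.subOne_apply, hh]; rfl]
        exact (show Even (rk (conjAut E g)) by rwa [rk_conjAut]).neg_one_pow
      refine ⟨⟨Multiplicative.ofAdd fun _ => E v, ⟨h, hmem⟩⟩, ?_⟩
      set x : X := ⟨Multiplicative.ofAdd fun _ => E v, ⟨h, hmem⟩⟩
      refine hk.trans ?_
      rw [← orderOf_aff_conjAut E g v]
      refine orderOf_dvd_of_pow_eq_one (aff_pow_eq_one.mpr ?_)
      obtain ⟨h1, h2⟩ := semidirect_pow x (orderOf x)
      rw [pow_orderOf_eq_one] at h1 h2
      refine ⟨LinearEquiv.ext fun y => ?_, ?_⟩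
      · rw [← act_pow hh, show h ^ orderOf x = 1 from (congrArg Subtype.val h1).symm, act_one]
        rfl
      · have := (h2 0).symm
        refine Eq.trans (Finset.sum_congr rfl fun i _ => ?_) this
        exact (act_pow hh i (E v)).symm

end CfsgLib.SpectrumSp8
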