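import Cfsg.Agent.Lib.SpectrumSp8.Unip
import Cfsg.Agent.Lib.SpectrumSp8.Bound

/-!
For each of the twelve exponents an isometry, and an affine isometry of even Dickson invariant, of a quadratic
space of dimension eight of minus type whose order is a multiple of it.
-/

set_option autoImplicit false

namespace CfsgLib.SpectrumSp8

open QuadraticMap Module

variable {F : Type*} [Field F] [Fintype F] [CharP F 2]

local notation "q" => Fintype.card F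

/-- An isometry of the minus space with order a multiple of `n`. -/
def HasElt (F : Type*) [Field F] [Fintype F] [CharP F 2] (n : ℕ) : Prop :=
  ∃ (Q : QuadraticForm F (Fin 8 → F)) (g : (Fin 8 → F) ≃ₗ[F] (Fin 8 → F)),
    (polarBilin Q).Nondegenerate ∧ gsum Q = -(Fintype.card F : ℤ) ^ 4 ∧ (∀ x, Q (g x) = Q x) ∧ n ∣ orderOf g

/-- An affine isometry of the minus space with order a multiple of `n` and even invariant. -/
def HasAff (F : Type*) [Field F] [Fintype F] [CharP F 2] (n : ℕ) : Prop :=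
  ∃ (Q : QuadraticForm F (Fin 8 → F)) (g : (Fin 8 → F) ≃ₗ[F] (Fin 8 → F)) (v : Fin 8 → F),
    (polarBilin Q).Nondegenerate ∧ gsum Q = -(Fintype.card F : ℤ) ^ 4 ∧ (∀ x, Q (g x) = Q x) ∧ Even (rk g) ∧
      n ∣ orderOf (aff g v)

theorem even_card : Even q := by
  obtain ⟨n, hn, h⟩ := FiniteField.card F 2
  rw [h]
  exact Nat.even_pow.mpr ⟨even_two, n.ne_zero⟩

theorem Tor.both {n : ℕ} {s : ℤ} (h : Tor F 8 s n) (hs : s = -(q : ℤ) ^ 4) : HasElt F n ∧ HasAff F n := by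
  obtain ⟨Q, g, hQ, hg, hp, ho, he⟩ := h
  exact ⟨⟨Q, g, hQ, hg.trans hs, hp, ho ▸ dvd_rfl⟩,
    ⟨Q, g, 0, hQ, hg.trans hs, hp, he, by rw [orderOf_aff_zero, ho]⟩⟩

theorem UnipO.combine {d₁ d₂ t n : ℕ} {s₁ s₂ : ℤ} (hU : UnipO F d₂ s₂ t) (hT : Tor F d₁ s₁ n) (hn : Odd n)
    (hd : d₁ + d₂ = 8) (hs : s₁ * s₂ = -(q : ℤ) ^ 4) : HasElt F (2 ^ t * n) := by
  obtain ⟨Q₁, g₁, hQ₁, hs₁, hg₁, ho₁, -⟩ := hT
  obtain ⟨Q₂, g₂, hQ₂, hs₂, hg₂, ho₂⟩ := hU
  obtain E : ((Fin d₁ → F) × (Fin d₂ → F)) ≃ₗ[F] (Fin 8 → F) :=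
    LinearEquiv.ofFinrankEq _ _ (by simp [finrank_prod, hd])
  let Q' : QuadraticForm F (Fin 8 → F) := (Q₁.prod Q₂).comp (E.symm : (Fin 8 → F) →ₗ[F] _)
  have h : ∀ v, (Q₁.prod Q₂) v = Q' (E v) := fun v => by simp [Q']
  refine ⟨Q', conjAut E (g₁.prodCongr g₂), nondegenerate_of_equiv E h (nondegenerate_prod hQ₁ hQ₂), ?_,
    fun x => ?_, ?_⟩
  · rw [← gsum_of_equiv _ _ E h, gsum_prod, hs₁, hs₂, hs]
  · obtain ⟨v, rfl⟩ := E.surjective x
    rw [conjAut_apply, ← h, ← h]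
    simp [prod_apply, hg₁, hg₂]
  · rw [MulEquiv.orderOf_eq, orderOf_prodCongr, ho₁]
    exact (hn.coprime_two_left.pow_left t).mul_dvd_of_dvd_of_dvd (ho₂.trans (Nat.dvd_lcm_right _ _))
      (Nat.dvd_lcm_left _ _)

theorem UnipA.combine {d₁ d₂ t n : ℕ} {s₁ s₂ : ℤ} (hU : UnipA F d₂ s₂ t) (hT : Tor F d₁ s₁ n) (hn : Odd n)
    (hd : d₁ + d₂ = 8) (hs : s₁ * s₂ = -(q : ℤ) ^ 4) : HasAff F (2 ^ t * n) := by
  obtain ⟨Q₁, g₁, hQ₁, hs₁, hg₁, ho₁, he₁⟩ := hT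
  obtain ⟨Q₂, g₂, v₂, hQ₂, hs₂, hg₂, he₂, ho₂⟩ := hU
  obtain E : ((Fin d₁ → F) × (Fin d₂ → F)) ≃ₗ[F] (Fin 8 → F) :=
    LinearEquiv.ofFinrankEq _ _ (by simp [finrank_prod, hd])
  let Q' : QuadraticForm F (Fin 8 → F) := (Q₁.prod Q₂).comp (E.symm : (Fin 8 → F) →ₗ[F] _)
  have h : ∀ v, (Q₁.prod Q₂) v = Q' (E v) := fun v => by simp [Q']
  refine ⟨Q', conjAut E (g₁.prodCongr g₂), E (0, v₂), nondegenerate_of_equiv E h (nondegenerate_prod hQ₁ hQ₂),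
    ?_, fun x => ?_, ?_, ?_⟩
  · rw [← gsum_of_equiv _ _ E h, gsum_prod, hs₁, hs₂, hs]
  · obtain ⟨v, rfl⟩ := E.surjective x
    rw [conjAut_apply, ← h, ← h]
    simp [prod_apply, hg₁, hg₂]
  · rw [rk_conjAut, rk_prodCongr]
    exact he₁.add he₂
  · rw [orderOf_aff_conjAut]
    refine dvd_trans ?_ (lcm_dvd_orderOf_aff g₁ g₂ 0 v₂)
    rw [orderOf_aff_zero, ho₁]
    exact (hn.coprime_two_left.pow_left t).mul_dvd_of_dvd_of_dvd (ho₂.trans (Nat.dvd_lcm_right _ _))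
      (Nat.dvd_lcm_left _ _)

theorem coprime_of_dvd_succ_pred {a b x : ℕ} (hx : 1 ≤ x) (ha : a ∣ x + 1) (hb : b ∣ x - 1) (hodd : Odd a) :
    a.Coprime b := by
  have h1 : a.gcd b ∣ 2 := by
    have := Nat.dvd_sub ((Nat.gcd_dvd_left a b).trans ha) ((Nat.gcd_dvd_right a b).trans hb)
    rwa [show x + 1 - (x - 1) = 2 by omega] at this
  rcases (Nat.dvd_prime Nat.prime_two).mp h1 with h | h
  · exact h
  · exfalso
    have := Nat.gcd_dvd_left a b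
    rw [h] at this
    exact hodd.not_two_dvd_nat this

theorem models (k : Fin 12) : HasElt F (maxExp q k) ∧ HasAff F (maxExp q k) := by
  have hq2 : 2 ≤ q := Fintype.one_lt_card
  have hq := even_card (F := F)
  have op : ∀ i : ℕ, i ≠ 0 → Odd (q ^ i + 1) := fun i hi => (Nat.even_pow.mpr ⟨hq, hi⟩).add_one
  have om : ∀ i : ℕ, i ≠ 0 → Odd (q ^ i - 1) := fun i hi =>
    Nat.Even.sub_odd (Nat.one_le_pow _ _ (by omega)) (Nat.even_pow.mpr ⟨hq, hi⟩) odd_one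
  have e2 : q ^ 2 - 1 = (q + 1) * (q - 1) := by simpa using Nat.sq_sub_sq q 1
  have e4 : q ^ 4 - 1 = (q ^ 2 + 1) * (q ^ 2 - 1) := by
    have h := Nat.sq_sub_sq (q ^ 2) 1
    rwa [← pow_mul, one_pow] at h
  have T : ∀ i : ℕ, i ≠ 0 → Tor F (2 * i) ((q : ℤ) ^ i) (q ^ i - 1) := tor_plus
  have T' : ∀ i : ℕ, i ≠ 0 → Tor F (2 * i) (-(q : ℤ) ^ i) (q ^ i + 1) := tor_minus
  have h13 : 1 ≤ q ^ 3 := Nat.one_le_pow _ _ (by omega)
  have h12 : 1 ≤ q ^ 2 := Nat.one_le_pow _ _ (by omega)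
  have p3 : q + 1 ∣ q ^ 3 + 1 := by simpa using Odd.nat_add_dvd_pow_add_pow q 1 (n := 3) (by decide)
  have m3 : q - 1 ∣ q ^ 3 - 1 := by simpa using Nat.sub_dvd_pow_sub_pow q 1 3
  have c1 : (q ^ 2 + 1).Coprime (q ^ 2 - 1) := coprime_of_dvd_succ_pred h12 dvd_rfl dvd_rfl (op 2 two_ne_zero)
  have c2 : (q + 1).Coprime (q ^ 3 - 1) := coprime_of_dvd_succ_pred h13 p3 dvd_rfl (by simpa using op 1 one_ne_zero)
  have c3 : (q ^ 3 + 1).Coprime (q - 1) := coprime_of_dvd_succ_pred h13 dvd_rfl m3 (op 3 (by norm_num))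
  have c4 : (q ^ 2 + 1).Coprime (q + 1) :=
    coprime_of_dvd_succ_pred h12 dvd_rfl (e2 ▸ dvd_mul_right _ _) (op 2 two_ne_zero)
  have c5 : (q ^ 2 + 1).Coprime (q - 1) :=
    coprime_of_dvd_succ_pred h12 dvd_rfl (e2 ▸ dvd_mul_left _ _) (op 2 two_ne_zero)
  have U1 : ∀ s : Bool, UnipO F 2 ((if s then 1 else -1) * (q : ℤ)) 1 ∧
      UnipA F 2 ((if s then 1 else -1) * (q : ℤ)) 1 := fun s => ⟨unipO_one s, unipA_one s⟩
  have U2 : ∀ s : Bool, UnipO F 4 ((if s then 1 else -1) * (q : ℤ) * q) 2 ∧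
      UnipA F 4 ((if s then 1 else -1) * (q : ℤ) * q) 2 := fun s => ⟨unipO_two s, unipA_two s⟩
  have U3 : ∀ s : Bool, UnipO F 6 ((if s then 1 else -1) * (q : ℤ) * q * q) 3 ∧
      UnipA F 6 ((if s then 1 else -1) * (q : ℤ) * q * q) 3 := fun s => ⟨unipO_three s, unipA_three s⟩
  have both : ∀ {d₁ d₂ t n : ℕ} {s₁ s₂ : ℤ}, (UnipO F d₂ s₂ t ∧ UnipA F d₂ s₂ t) → Tor F d₁ s₁ n → Odd n →
      d₁ + d₂ = 8 → s₁ * s₂ = -(q : ℤ) ^ 4 → HasElt F (2 ^ t * n) ∧ HasAff F (2 ^ t * n) :=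
    fun hU hT hn hd hs => ⟨hU.1.combine hT hn hd hs, hU.2.combine hT hn hd hs⟩
  fin_cases k
  · exact (T' 4 (by norm_num)).both rfl
  · simpa [maxExp, e4] using ((T' 2 two_ne_zero).add (T 2 two_ne_zero) c1).both (by ring)
  · have hT : Tor F 8 _ _ := (T 3 (by norm_num)).add (T' 1 one_ne_zero) (by simpa using c2.symm)
    simpa [maxExp] using hT.both (by ring)
  · have hT : Tor F 8 _ _ := (T' 3 (by norm_num)).add (T 1 one_ne_zero) (by simpa using c3)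
    simpa [maxExp] using hT.both (by ring)
  · simpa [maxExp] using both (U1 false) (T 3 (by norm_num)) (om 3 (by norm_num)) rfl (by simp; ring)
  · simpa [maxExp] using both (U1 true) (T' 3 (by norm_num)) (op 3 (by norm_num)) rfl (by simp; ring)
  · have hT : Tor F 6 _ _ := (T' 2 two_ne_zero).add (T' 1 one_ne_zero) (by simpa using c4)
    simpa [maxExp] using both (U1 false) hT ((op 2 two_ne_zero).mul (by simpa using op 1 one_ne_zero)) rfl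
      (by simp; ring)
  · have hT : Tor F 6 _ _ := (T' 2 two_ne_zero).add (T 1 one_ne_zero) (by simpa using c5)
    simpa [maxExp] using both (U1 true) hT ((op 2 two_ne_zero).mul (by simpa using om 1 one_ne_zero)) rfl
      (by simp; ring)
  · simpa [maxExp] using both (U2 false) (T 2 two_ne_zero) (om 2 two_ne_zero) rfl (by simp; ring)
  · simpa [maxExp] using both (U2 true) (T' 2 two_ne_zero) (op 2 two_ne_zero) rfl (by simp; ring)
  · simpa [maxExp] using both (U3 false) (T 1 one_ne_zero) (om 1 one_ne_zero) rfl (by simp; ring)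
  · simpa [maxExp] using both (U3 true) (T' 1 one_ne_zero) (op 1 one_ne_zero) rfl (by simp; ring)

end CfsgLib.SpectrumSp8
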