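import Cfsg.Agent.Lib.SpectrumSp8.Space
import Cfsg.Agent.Lib.Classes.QuadExt
import Cfsg.Agent.Lib.Classes.QuadDisc

/-!
Tori: isometries of orders `q ^ i - 1` and `q ^ i + 1` of the two forms of dimension `2 i`.
-/

set_option autoImplicit false

namespace CfsgLib.SpectrumSp8

open QuadraticMap Module

section form

variable (F : Type*) [Field F] {K : Type*} [Field K] [Algebra F K]

/-- The form `Tr (c₀ x² + x y + c₂ y²)`. -/
noncomputable def trQ (c₀ c₂ : K) : QuadraticForm F (K × K) :=
  (Algebra.trace F K).compQuadraticMap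
    (QuadraticMap.linMulLin ((LinearMap.mulLeft F c₀).comp (LinearMap.fst F K K)) (LinearMap.fst F K K) +
      QuadraticMap.linMulLin (LinearMap.fst F K K) (LinearMap.snd F K K) +
      QuadraticMap.linMulLin ((LinearMap.mulLeft F c₂).comp (LinearMap.snd F K K)) (LinearMap.snd F K K))

theorem trQ_apply (c₀ c₂ : K) (x : K × K) :
    trQ F c₀ c₂ x = Algebra.trace F K (c₀ * x.1 ^ 2 + x.1 * x.2 + c₂ * x.2 ^ 2) := by
  show Algebra.trace F K (c₀ * x.1 * x.1 + x.1 * x.2 + c₂ * x.2 * x.2) = _
  rw [mul_assoc, mul_assoc, pow_two, pow_two]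

variable [CharP F 2]

theorem polar_trQ [CharP K 2] (c₀ c₂ : K) (x y : K × K) :
    polar (trQ F c₀ c₂) x y = Algebra.trace F K (x.1 * y.2 + y.1 * x.2) := by
  simp only [polar, trQ_apply, Prod.fst_add, Prod.snd_add, ← map_sub, CharTwo.add_sq]
  congr 1
  ring

variable [Fintype F] [Fintype K] [CharP K 2]

theorem nondegenerate_trQ (c₀ c₂ : K) : (polarBilin (trQ F c₀ c₂)).Nondegenerate := by
  obtain ⟨z, hz⟩ := Algebra.trace_surjective F K 1
  have hl : ∀ x : K × K, (∀ y, polar (trQ F c₀ c₂) x y = 0) → x = 0 := fun x hx => by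
    by_contra h
    by_cases h1 : x.1 = 0
    · have h2 : x.2 ≠ 0 := fun h2 => h (Prod.ext h1 h2)
      have := hx (z / x.2, 0)
      rw [polar_trQ, mul_zero, zero_add, div_mul_cancel₀ _ h2, hz] at this
      exact one_ne_zero this
    · have := hx (0, z / x.1)
      rw [polar_trQ, zero_mul, add_zero, mul_div_cancel₀ _ h1, hz] at this
      exact one_ne_zero this
  exact ⟨hl, fun y hy => hl y fun x => (polar_comm _ y x).trans (hy x)⟩

theorem gsum_trQ_plus : gsum (trQ F (0 : K) 0) = Fintype.card K := by
  rw [← sum_chrK_hyp (F := F) (K := K), gsum, Fintype.sum_prod_type]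
  simp [trQ_apply, chrK]

theorem gsum_trQ_minus {ζ : K} (hζ : ∀ t : K, t ^ 2 + t + ζ ≠ 0) :
    gsum (trQ F (1 : K) ζ) = -(Fintype.card K : ℤ) := by
  rw [← sum_chrK_aniso (F := F) hζ, gsum, Fintype.sum_prod_type]
  simp [trQ_apply, chrK]

end form

/-- Some element gives an anisotropic form. -/
theorem exists_noroot (K : Type*) [Field K] [Fintype K] [CharP K 2] :
    ∃ ζ : K, ∀ t : K, t ^ 2 + t + ζ ≠ 0 := by
  by_contra h
  push Not at h
  have : asRange K = ⊤ := eq_top_iff.mpr fun ζ _ => by
    obtain ⟨t, ht⟩ := h ζ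
    exact ⟨t, CharTwo.add_eq_zero.mp ht⟩
  have h2 := asRange_index (F := K)
  rw [this, AddSubgroup.index_top] at h2
  norm_num at h2

/-- The cyclic group of units has an element of each order dividing its size. -/
theorem exists_units_orderOf {K : Type*} [Field K] [Fintype K] {d : ℕ} (hd : d ∣ Fintype.card K - 1) :
    ∃ z : Kˣ, orderOf z = d := by
  classical
  obtain ⟨g, hg⟩ := IsCyclic.exists_generator (α := Kˣ)
  have h : orderOf g = Fintype.card K - 1 := by
    rw [orderOf_eq_card_of_forall_mem_zpowers hg, Nat.card_eq_fintype_card, Fintype.card_units]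
  exact ⟨g ^ (orderOf g / d), orderOf_pow_orderOf_div (orderOf_pos g).ne' (h ▸ hd)⟩

variable {F : Type*} [Field F] [Fintype F] [CharP F 2]

local notation "q" => Fintype.card F

private theorem ext_facts (i : ℕ) [NeZero i] :
    CharP (FiniteField.Extension F 2 i) 2 ∧ Nat.card (FiniteField.Extension F 2 i) = q ^ i := by
  refine ⟨charP_of_injective_algebraMap (algebraMap F _).injective 2, ?_⟩
  rw [FiniteField.natCard_extension, Nat.card_eq_fintype_card]

theorem even_rk_of_injective {V : Type*} [AddCommGroup V] [Module F V] [FiniteDimensional F V]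
    (g : V ≃ₗ[F] V) (hg : g = 1 ∨ ∀ x, g x = x → x = 0) (hev : Even (finrank F V)) : Even (rk g) := by
  rcases hg with rfl | h
  · rw [rk_one]; exact Even.zero
  · have hinj : Function.Injective ⇑((g : V →ₗ[F] V) - (LinearMap.id : V →ₗ[F] V)) :=
      (injective_iff_map_eq_zero ((g : V →ₗ[F] V) - LinearMap.id)).mpr fun x hx =>
        h x (sub_eq_zero.mp hx)
    rwa [rk, LinearMap.finrank_range_of_inj hinj]

theorem tor_plus (i : ℕ) (hi : i ≠ 0) : Tor F (2 * i) ((q : ℤ) ^ i) (q ^ i - 1) := by
  haveI : NeZero i := ⟨hi⟩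
  obtain ⟨hchar, hcard⟩ := ext_facts (F := F) i
  let K := FiniteField.Extension F 2 i
  letI : Fintype K := Fintype.ofFinite K
  haveI := hchar
  have hK : Fintype.card K = q ^ i := by rw [Fintype.card_eq_nat_card]; exact hcard
  obtain ⟨z, hz⟩ := exists_units_orderOf (K := K) dvd_rfl
  let g : (K × K) ≃ₗ[F] (K × K) :=
    (LinearEquiv.smulOfUnit (R := K) (M := K) z).restrictScalars F |>.prodCongr
      ((LinearEquiv.smulOfUnit (R := K) (M := K) z⁻¹).restrictScalars F)
  have hg : ∀ x : K × K, g x = ((z : K) * x.1, (z⁻¹ : Kˣ) * x.2) := fun x => rfl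
  have hord : orderOf g = q ^ i - 1 := by
    rw [← hK, ← hz]
    refine orderOf_eq_orderOf_iff.mpr fun N => ?_
    have hp : ∀ x : K × K, (g ^ N) x = (((z ^ N : Kˣ) : K) * x.1, (((z⁻¹) ^ N : Kˣ) : K) * x.2) := by
      induction N with
      | zero => intro x; simp
      | succ N ih => intro x; rw [pow_succ', LinearEquiv.mul_apply, ih, hg]; simp [pow_succ', mul_assoc]
    constructor
    · intro h
      have := congrArg Prod.fst (LinearEquiv.congr_fun h (1, 0))
      rw [hp] at this
      exact Units.ext (by simpa using this)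
    · intro h
      refine LinearEquiv.ext fun x => ?_
      rw [hp, h, inv_pow, h, inv_one, Units.val_one, one_mul, one_mul]
      rfl
  have hfr : finrank F (K × K) = 2 * i := by
    rw [finrank_prod, FiniteField.finrank_extension]; omega
  have hev : Even (rk g) := by
    refine even_rk_of_injective g ?_ (hfr ▸ even_two_mul i)
    by_cases h1 : z = 1
    · left
      exact LinearEquiv.ext fun x => by rw [hg, h1, inv_one, Units.val_one, one_mul, one_mul]; rfl
    · right
      intro x hx
      rw [hg] at hx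
      have e1 : ((z : K) - 1) * x.1 = 0 := by rw [sub_mul, one_mul, sub_eq_zero]; exact congrArg Prod.fst hx
      have e2 : (((z⁻¹ : Kˣ) : K) - 1) * x.2 = 0 := by
        rw [sub_mul, one_mul, sub_eq_zero]; exact congrArg Prod.snd hx
      refine Prod.ext ((mul_eq_zero.mp e1).resolve_left ?_) ((mul_eq_zero.mp e2).resolve_left ?_)
      · rw [sub_eq_zero]; exact fun h => h1 (Units.ext h)
      · rw [sub_eq_zero]; exact fun h => h1 (inv_eq_one.mp (Units.ext h))
  have h := Tor.of_space hfr (trQ F (0 : K) 0) (nondegenerate_trQ F _ _) g (fun x => by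
    rw [hg, trQ_apply, trQ_apply]
    congr 1
    have : (z : K) * ((z⁻¹ : Kˣ) : K) = 1 := Units.mul_inv z
    linear_combination (x.1 * x.2) * this) hev
  rw [gsum_trQ_plus, hord, hK] at h
  exact_mod_cast h

theorem tor_minus (i : ℕ) (hi : i ≠ 0) : Tor F (2 * i) (-(q : ℤ) ^ i) (q ^ i + 1) := by
  haveI : NeZero i := ⟨hi⟩
  obtain ⟨hchar, hcard⟩ := ext_facts (F := F) i
  let K := FiniteField.Extension F 2 i
  letI : Fintype K := Fintype.ofFinite K
  haveI := hchar
  have hK : Fintype.card K = q ^ i := by rw [Fintype.card_eq_nat_card]; exact hcard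
  let L := FiniteField.Extension K 2 2
  letI : Fintype L := Fintype.ofFinite L
  have hL : Fintype.card L = Fintype.card K ^ 2 := by
    rw [Fintype.card_eq_nat_card]
    exact (FiniteField.natCard_extension K 2 2).trans (by rw [Nat.card_eq_fintype_card])
  obtain ⟨ζ, hζ⟩ := exists_noroot K
  obtain ⟨θ, hθ, hs, hn⟩ := Classes.exists_root_of_anisotropic (K := L) hL rfl 1 ζ
    (fun z₁ z₂ h => Classes.anisotropic_of_noroot hζ z₁ z₂ h)
  let Lm : (K × K) →ₗ[K] L :=
    { toFun := fun x => algebraMap K L x.1 + θ * algebraMap K L x.2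
      map_add' := fun x y => by simp only [Prod.fst_add, Prod.snd_add, map_add]; ring
      map_smul' := fun r x => by
        simp only [Prod.smul_fst, Prod.smul_snd, RingHom.id_apply, smul_eq_mul]
        rw [Algebra.smul_def, map_mul, map_mul]; ring }
  have hinj : Function.Injective Lm := (injective_iff_map_eq_zero Lm).mpr fun x hx => by
    obtain ⟨h0, h1⟩ := Classes.mem_range_of_mul_add θ hθ _ _ hx
    exact Prod.ext h0 h1
  let e : (K × K) ≃ₗ[K] L := LinearEquiv.ofBijective Lm ⟨hinj,
    (LinearMap.injective_iff_surjective_of_finrank_eq_finrank (by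
      rw [finrank_prod, finrank_self]; exact (FiniteField.finrank_extension K 2 2).symm)).mp hinj⟩
  have he : ∀ x, e x * e x ^ Fintype.card K = algebraMap K L (x.1 ^ 2 + x.1 * x.2 + ζ * x.2 ^ 2) := fun x => by
    show (algebraMap K L x.1 + θ * algebraMap K L x.2) *
      (algebraMap K L x.1 + θ * algebraMap K L x.2) ^ Fintype.card K = _
    simp only [Classes.add_pow_card (K := L) (F := K) rfl, mul_pow,
      Classes.algebraMap_pow_card (K := L) (F := K) rfl, map_add, map_mul, map_pow]
    rw [map_one] at hs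
    linear_combination (algebraMap K L x.1 * algebraMap K L x.2) * hs + (algebraMap K L x.2) ^ 2 * hn
  obtain ⟨ε, hε⟩ := exists_units_orderOf (K := L) (d := Fintype.card K + 1) (by
    rw [hL]; simpa using Dvd.intro (Fintype.card K - 1) (Nat.sq_sub_sq (Fintype.card K) 1).symm)
  let g : (K × K) ≃ₗ[F] (K × K) :=
    ((e.trans ((LinearEquiv.smulOfUnit (R := L) (M := L) ε).restrictScalars K)).trans e.symm).restrictScalars F
  have hg : ∀ x, e (g x) = (ε : L) * e x := fun x => by
    show e (e.symm ((ε : L) • e x)) = _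
    rw [e.apply_symm_apply, smul_eq_mul]
  have hord : orderOf g = q ^ i + 1 := by
    rw [← hK, ← hε]
    refine orderOf_eq_orderOf_iff.mpr fun N => ?_
    have hp : ∀ x, e ((g ^ N) x) = ((ε ^ N : Lˣ) : L) * e x := by
      induction N with
      | zero => intro x; simp
      | succ N ih => intro x; rw [pow_succ', LinearEquiv.mul_apply, hg, ih]; simp [pow_succ', mul_assoc]
    constructor
    · intro h
      have := hp (e.symm 1)
      rw [h, LinearEquiv.coe_one, id_eq, e.apply_symm_apply, mul_one] at this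
      exact Units.ext this.symm
    · intro h
      refine LinearEquiv.ext fun x => e.injective ?_
      rw [hp, h, Units.val_one, one_mul]
      rfl
  have hfr : finrank F (K × K) = 2 * i := by
    rw [finrank_prod, FiniteField.finrank_extension]; omega
  have hev : Even (rk g) := by
    refine even_rk_of_injective g (Or.inr fun x hx => ?_) (hfr ▸ even_two_mul i)
    have h1 : ((ε : L) - 1) * e x = 0 := by
      rw [sub_mul, one_mul, sub_eq_zero, ← hg, hx]
    refine e.injective (((mul_eq_zero.mp h1).resolve_left ?_).trans (map_zero e).symm)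
    rw [sub_eq_zero, Units.val_eq_one]
    rintro rfl
    rw [orderOf_one] at hε
    have := Fintype.card_pos (α := K)
    omega
  have h := Tor.of_space hfr (trQ F (1 : K) ζ) (nondegenerate_trQ F _ _) g (fun x => by
    rw [trQ_apply, trQ_apply, one_mul, one_mul]
    congr 1
    refine (algebraMap K L).injective ?_
    rw [← he, ← he, hg, mul_pow]
    have hNε : (ε : L) * (ε : L) ^ Fintype.card K = 1 := by
      rw [← pow_succ', ← hε, ← Units.val_pow_eq_pow_val, pow_orderOf_eq_one, Units.val_one]
    linear_combination (e x * e x ^ Fintype.card K) * hNε) hev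
  rw [gsum_trQ_minus F hζ, hord, hK] at h
  push_cast at h
  exact h

end CfsgLib.SpectrumSp8
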