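import Cfsg.Agent.Lib.SpectrumSp8.Tori

/-!
Isometries and affine isometries of two-power order.
-/

set_option autoImplicit false

namespace CfsgLib.SpectrumSp8

open QuadraticMap Module

variable {F : Type*} [Field F] [Fintype F] [CharP F 2]
variable {W : Type*} [AddCommGroup W] [Module F W] [FiniteDimensional F W]

theorem polar_self_zero (Q : QuadraticForm F W) (x : W) : polar Q x x = 0 := by
  rw [polar_self, two_nsmul, CharTwo.add_self_eq_zero]

omit [Fintype F] [FiniteDimensional F W] in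
variable (F) in
include F in
theorem add_self_zero (x : W) : x + x = 0 := by
  rw [← two_smul F, CharTwo.two_eq_zero, zero_smul]

/-- Reflections. -/
theorem exists_refl (Q : QuadraticForm F W) (hQ : (polarBilin Q).Nondegenerate) (hW : 0 < finrank F W) :
    ∃ (g : W ≃ₗ[F] W) (v : W), (∀ x, Q (g x) = Q x) ∧ (∀ x, g (g x) = x) ∧ rk g = 1 ∧
      polar Q (g v) v ≠ 0 := by
  haveI : Nontrivial W := Module.nontrivial_of_finrank_pos hW
  obtain ⟨a, ha⟩ : ∃ a, Q a ≠ 0 := by
    by_contra h
    push Not at h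
    obtain ⟨x, hx⟩ := exists_ne (0 : W)
    exact hx (hQ.1 x fun y => by
      show polar Q x y = 0
      simp [polar, h])
  have ha0 : a ≠ 0 := fun h => ha (by rw [h, QuadraticMap.map_zero])
  obtain ⟨v, hv⟩ : ∃ v, polar Q a v ≠ 0 := by
    by_contra h
    push Not at h
    exact ha0 (hQ.1 a h)
  let f : W →ₗ[F] W := LinearMap.id + ((Q a)⁻¹ • polarBilin Q a).smulRight a
  have hf : ∀ x, f x = x + ((Q a)⁻¹ * polar Q a x) • a := fun x => rfl
  have hff : ∀ x, f (f x) = x := fun x => by
    have h1 : polar Q a (f x) = polar Q a x := by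
      rw [hf, polar_add_right, polar_smul_right, polar_self_zero, smul_zero, add_zero]
    rw [hf (f x), h1, hf, add_assoc, add_self_zero F, add_zero]
  let g : W ≃ₗ[F] W := LinearEquiv.ofInvolutive f hff
  have hg : ∀ x, g x = x + ((Q a)⁻¹ * polar Q a x) • a := hf
  refine ⟨g, v, fun x => ?_, hff, ?_, ?_⟩
  · rw [hg, QuadraticMap.map_add Q, QuadraticMap.map_smul, polar_smul_right, polar_comm (⇑Q) x a, smul_eq_mul,
      smul_eq_mul]
    field_simp
    linear_combination CharTwo.add_self_eq_zero (polar Q a x ^ 2)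
  · have hr : LinearMap.range ((g : W →ₗ[F] W) - LinearMap.id) = Submodule.span F {a} := by
      refine le_antisymm ?_ ?_
      · rintro _ ⟨x, rfl⟩
        rw [LinearMap.sub_apply, LinearMap.id_apply, LinearEquiv.coe_coe, hg, add_sub_cancel_left]
        exact Submodule.smul_mem _ _ (Submodule.mem_span_singleton_self a)
      · rw [Submodule.span_singleton_le_iff_mem]
        refine ⟨((Q a)⁻¹ * polar Q a v)⁻¹ • v, ?_⟩
        rw [LinearMap.map_smul, LinearMap.sub_apply, LinearMap.id_apply, LinearEquiv.coe_coe, hg,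
          add_sub_cancel_left, smul_smul, inv_mul_cancel₀ (mul_ne_zero (inv_ne_zero ha) hv), one_smul]
    rw [rk, hr, finrank_span_singleton ha0]
  · rw [hg, polar_add_left, polar_smul_left, polar_self_zero, zero_add, smul_eq_mul]
    exact mul_ne_zero (mul_ne_zero (inv_ne_zero ha) hv) hv

/-- The hyperbolic plane. -/
noncomputable def hyp (F : Type*) [Field F] : QuadraticForm F (F × F) := trQ F (0 : F) 0

theorem hyp_apply (p : F × F) : hyp F p = p.1 * p.2 := by simp [hyp, trQ_apply]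

theorem nondegenerate_hyp : (polarBilin (hyp F)).Nondegenerate := nondegenerate_trQ F _ _

theorem gsum_hyp : gsum (hyp F) = (Fintype.card F : ℤ) := gsum_trQ_plus F

/-- The isometry of `W ⊥ H` extending `g` along `v`. -/
def extMap (Q : QuadraticForm F W) (g : W ≃ₗ[F] W) (v : W) : (W × (F × F)) →ₗ[F] W × (F × F) where
  toFun x := (g x.1 + x.2.2 • v, (x.2.1 + polar Q (g x.1) v + x.2.2 * Q v, x.2.2))
  map_add' x y := by
    refine Prod.ext ?_ (Prod.ext ?_ rfl)
    · simp only [Prod.fst_add, Prod.snd_add, map_add, add_smul]; abel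
    · simp only [Prod.fst_add, Prod.snd_add, map_add, polar_add_left]; ring
  map_smul' c x := by
    refine Prod.ext ?_ (Prod.ext ?_ rfl)
    · simp only [Prod.smul_fst, Prod.smul_snd, map_smul, RingHom.id_apply, smul_eq_mul, smul_add, smul_smul]
    · simp only [Prod.smul_fst, Prod.smul_snd, map_smul, RingHom.id_apply, smul_eq_mul, polar_smul_left]; ring

theorem extMap_injective (Q : QuadraticForm F W) (g : W ≃ₗ[F] W) (v : W) :
    Function.Injective (extMap Q g v) := by
  refine (injective_iff_map_eq_zero _).mpr fun x hx => ?_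
  have h3 : x.2.2 = 0 := congrArg (fun z => z.2.2) hx
  have h1 : g x.1 + x.2.2 • v = 0 := congrArg Prod.fst hx
  have h2 : x.2.1 + polar Q (g x.1) v + x.2.2 * Q v = 0 := congrArg (fun z => z.2.1) hx
  rw [h3, zero_smul, add_zero] at h1
  rw [h3, zero_mul, add_zero, h1, polar_zero_left, add_zero] at h2
  exact Prod.ext (g.map_eq_zero_iff.mp h1) (Prod.ext h2 h3)

/-- The extension as an automorphism. -/
noncomputable def extAut (Q : QuadraticForm F W) (g : W ≃ₗ[F] W) (v : W) :
    (W × (F × F)) ≃ₗ[F] W × (F × F) :=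
  LinearEquiv.ofInjectiveEndo (extMap Q g v) (extMap_injective Q g v)

theorem extAut_apply (Q : QuadraticForm F W) (g : W ≃ₗ[F] W) (v : W) (x : W × (F × F)) :
    extAut Q g v x = (g x.1 + x.2.2 • v, (x.2.1 + polar Q (g x.1) v + x.2.2 * Q v, x.2.2)) := rfl

theorem extAut_isometry (Q : QuadraticForm F W) (g : W ≃ₗ[F] W) (hg : ∀ x, Q (g x) = Q x) (v : W)
    (x : W × (F × F)) : (Q.prod (hyp F)) (extAut Q g v x) = (Q.prod (hyp F)) x := by
  rw [extAut_apply, prod_apply, prod_apply, hyp_apply, hyp_apply, QuadraticMap.map_add Q, QuadraticMap.map_smul,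
    polar_smul_right, hg, smul_eq_mul, smul_eq_mul]
  linear_combination CharTwo.add_self_eq_zero (x.2.2 * polar Q (g x.1) v) +
    CharTwo.add_self_eq_zero (x.2.2 * x.2.2 * Q v)

theorem extAut_pow_apply (Q : QuadraticForm F W) (g : W ≃ₗ[F] W) (v : W) (N : ℕ) (x : W × (F × F)) :
    ((extAut Q g v ^ N) x).1 = (g ^ N) x.1 + x.2.2 • ∑ i ∈ Finset.range N, (g ^ i) v ∧
      ((extAut Q g v ^ N) x).2.2 = x.2.2 := by
  induction N with
  | zero => simp
  | succ N ih =>
    rw [pow_succ', LinearEquiv.mul_apply, extAut_apply, ih.2]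
    refine ⟨?_, rfl⟩
    show g ((extAut Q g v ^ N) x).1 + x.2.2 • v = _
    rw [ih.1, map_add, map_smul, map_sum, Finset.sum_range_succ', smul_add, pow_succ' g N]
    simp only [pow_succ' g, LinearEquiv.mul_apply, pow_zero, LinearEquiv.coe_one, id_eq]
    abel

theorem extAut_fix (Q : QuadraticForm F W) (g : W ≃ₗ[F] W) (v : W) (N : ℕ) :
    (extAut Q g v ^ N) (0, (1, 0)) = (0, (1, 0)) := by
  induction N with
  | zero => rfl
  | succ N ih =>
    rw [pow_succ', LinearEquiv.mul_apply, ih, extAut_apply]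
    simp

/-- The extension of an element of two-power order doubles the order. -/
theorem two_pow_dvd_orderOf_extAut (Q : QuadraticForm F W) (g : W ≃ₗ[F] W) (v : W) (s : ℕ)
    (hg : g ^ 2 ^ s = 1) (hv : ∑ i ∈ Finset.range (2 ^ s), (g ^ i) v ≠ 0) :
    2 ^ (s + 1) ∣ orderOf (extAut Q g v) := by
  have hne : extAut Q g v ^ 2 ^ s ≠ 1 := fun h => hv (by
    have := (extAut_pow_apply Q g v (2 ^ s) (0, (0, 1))).1
    rw [h, map_zero, zero_add, one_smul] at this
    exact this.symm)
  have h2 : extAut Q g v ^ (2 ^ (s + 2)) = 1 := by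
    rw [pow_succ, pow_mul, pow_two]
    refine LinearEquiv.ext fun x => ?_
    rw [LinearEquiv.mul_apply]
    set k := extAut Q g v ^ 2 ^ (s + 1)
    have hs : g ^ 2 ^ (s + 1) = 1 := by rw [pow_succ, pow_mul, hg, one_pow]
    have hsum : ∑ i ∈ Finset.range (2 ^ (s + 1)), (g ^ i) v = 0 := by
      rw [pow_succ, mul_two, Finset.sum_range_add]
      rw [Finset.sum_congr rfl fun i _ => show (g ^ (2 ^ s + i)) v = (g ^ i) v by rw [pow_add, hg, one_mul]]
      exact add_self_zero F _
    have hk : ∀ y, ∃ c : F, k y = y + c • ((0 : W), ((1 : F), (0 : F))) := fun y => by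
      obtain ⟨e1, e2⟩ := extAut_pow_apply Q g v (2 ^ (s + 1)) y
      rw [hs, hsum, smul_zero, add_zero] at e1
      exact ⟨(k y).2.1 - y.2.1, Prod.ext (by simpa using e1) (Prod.ext (by simp) (by simpa using e2))⟩
    obtain ⟨c, hc⟩ := hk x
    rw [hc, map_add, map_smul, extAut_fix, hc, add_assoc, ← add_smul, CharTwo.add_self_eq_zero, zero_smul,
      add_zero]
    rfl
  obtain ⟨r, -, hr⟩ := (Nat.dvd_prime_pow Nat.prime_two).mp (orderOf_dvd_of_pow_eq_one h2)
  rw [hr]
  refine Nat.pow_dvd_pow 2 ?_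
  by_contra h
  exact hne (orderOf_dvd_iff_pow_eq_one.mp (hr ▸ Nat.pow_dvd_pow 2 (by omega)))

theorem extAut_involution (Q : QuadraticForm F W) (g : W ≃ₗ[F] W) (hgg : ∀ x, g (g x) = x)
    (hg : ∀ x, Q (g x) = Q x) (v : W) :
    extAut Q g v ^ 2 ^ 2 = 1 ∧
      ∑ i ∈ Finset.range (2 ^ 2), (extAut Q g v ^ i) ((0 : W), ((0 : F), (1 : F))) =
        (0, (polar Q (g v) v, 0)) := by
  set m := extAut Q g v
  have hm2 : ∀ x, m (m x) = (x.1 + x.2.2 • (g v + v),
      (x.2.1 + polar Q (g x.1 + x.1) v + x.2.2 * polar Q (g v) v, x.2.2)) := fun x => by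
    rw [extAut_apply, extAut_apply]
    refine Prod.ext ?_ (Prod.ext ?_ rfl)
    · simp only [map_add, map_smul, hgg, smul_add]; abel
    · simp only [map_add, map_smul, hgg, polar_add_left, polar_smul_left, smul_eq_mul]
      linear_combination CharTwo.add_self_eq_zero (x.2.2 * Q v)
  have hw : ∀ (b : F) (x : W), g (x + b • (g v + v)) + (x + b • (g v + v)) = g x + x := fun b x => by
    have : g (g v + v) = g v + v := by rw [map_add, hgg, add_comm]
    rw [map_add, map_smul, this,
      show g x + b • (g v + v) + (x + b • (g v + v)) = g x + x + (b • (g v + v) + b • (g v + v)) by abel,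
      add_self_zero F, add_zero]
  refine ⟨LinearEquiv.ext fun x => ?_, ?_⟩
  · show m (m (m (m x))) = x
    rw [hm2, hm2]
    refine Prod.ext ?_ (Prod.ext ?_ rfl)
    · show x.1 + x.2.2 • (g v + v) + x.2.2 • (g v + v) = x.1
      rw [add_assoc, add_self_zero F, add_zero]
    · show x.2.1 + polar Q (g x.1 + x.1) v + x.2.2 * polar Q (g v) v +
        polar Q (g (x.1 + x.2.2 • (g v + v)) + (x.1 + x.2.2 • (g v + v))) v + x.2.2 * polar Q (g v) v = x.2.1
      rw [hw]
      linear_combination CharTwo.add_self_eq_zero (polar Q (g x.1 + x.1) v) +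
        CharTwo.add_self_eq_zero (x.2.2 * polar Q (g v) v)
  · set e : W × (F × F) := ((0 : W), ((0 : F), (1 : F)))
    have h1 : m e = (v, (Q v, 1)) := by simp [m, e, extAut_apply]
    have h3 : m (m (m e)) = (g v, (Q v, 1)) := by
      rw [h1, hm2]
      refine Prod.ext ?_ (Prod.ext ?_ rfl)
      · show v + (1 : F) • (g v + v) = g v
        rw [one_smul, add_left_comm, add_self_zero F, add_zero]
      · show Q v + polar Q (g v + v) v + 1 * polar Q (g v) v = Q v
        rw [polar_add_left, polar_self_zero]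
        linear_combination CharTwo.add_self_eq_zero (polar Q (g v) v)
    have h2 : m (m e) = (g v + v, (polar Q (g v) v, 1)) := by
      rw [hm2]; simp [e]
    simp only [show (2 : ℕ) ^ 2 = 4 from rfl, Finset.sum_range_succ, Finset.sum_range_zero, pow_succ, pow_zero,
      one_mul, LinearEquiv.coe_one, LinearEquiv.mul_apply, id_eq, h1]
    rw [h1] at h2 h3
    rw [h3, h2]
    refine Prod.ext ?_ (Prod.ext ?_ ?_)
    · show 0 + (0 : W) + v + (g v + v) + g v = 0
      rw [show 0 + (0 : W) + v + (g v + v) + g v = (v + v) + (g v + g v) by abel, add_self_zero F,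
        add_self_zero F, add_zero]
    · show 0 + (0 : F) + Q v + polar Q (g v) v + Q v = polar Q (g v) v
      linear_combination CharTwo.add_self_eq_zero (Q v)
    · show (0 : F) + 1 + 1 + 1 + 1 = 0
      linear_combination CharTwo.two_eq_zero (R := F) * 2

/-- A two-power piece without translation. -/
def UnipO (F : Type*) [Field F] [Fintype F] [CharP F 2] (d : ℕ) (s : ℤ) (t : ℕ) : Prop :=
  ∃ (Q : QuadraticForm F (Fin d → F)) (g : (Fin d → F) ≃ₗ[F] (Fin d → F)),
    (polarBilin Q).Nondegenerate ∧ gsum Q = s ∧ (∀ x, Q (g x) = Q x) ∧ 2 ^ t ∣ orderOf g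

/-- A two-power piece with translation. -/
def UnipA (F : Type*) [Field F] [Fintype F] [CharP F 2] (d : ℕ) (s : ℤ) (t : ℕ) : Prop :=
  ∃ (Q : QuadraticForm F (Fin d → F)) (g : (Fin d → F) ≃ₗ[F] (Fin d → F)) (v : Fin d → F),
    (polarBilin Q).Nondegenerate ∧ gsum Q = s ∧ (∀ x, Q (g x) = Q x) ∧ Even (rk g) ∧
      2 ^ t ∣ orderOf (aff g v)

variable [Fintype W]

theorem UnipO.of_space {d t : ℕ} (hd : finrank F W = d) (Q : QuadraticForm F W)
    (hQ : (polarBilin Q).Nondegenerate) (g : W ≃ₗ[F] W) (hg : ∀ x, Q (g x) = Q x)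
    (ht : 2 ^ t ∣ orderOf g) : UnipO F d (gsum Q) t := by
  obtain E : W ≃ₗ[F] (Fin d → F) := LinearEquiv.ofFinrankEq W (Fin d → F) (by rw [hd, finrank_fin_fun])
  let Q' : QuadraticForm F (Fin d → F) := Q.comp (E.symm : (Fin d → F) →ₗ[F] W)
  have h : ∀ v, Q v = Q' (E v) := fun v => by simp [Q']
  refine ⟨Q', conjAut E g, nondegenerate_of_equiv E h hQ, (gsum_of_equiv Q Q' E h).symm, fun x => ?_,
    (MulEquiv.orderOf_eq (conjAut E) g).symm ▸ ht⟩
  obtain ⟨v, rfl⟩ := E.surjective x
  rw [conjAut_apply, ← h, ← h, hg]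

theorem UnipA.of_space {d t : ℕ} (hd : finrank F W = d) (Q : QuadraticForm F W)
    (hQ : (polarBilin Q).Nondegenerate) (g : W ≃ₗ[F] W) (v : W) (hg : ∀ x, Q (g x) = Q x) (hev : Even (rk g))
    (ht : 2 ^ t ∣ orderOf (aff g v)) : UnipA F d (gsum Q) t := by
  obtain E : W ≃ₗ[F] (Fin d → F) := LinearEquiv.ofFinrankEq W (Fin d → F) (by rw [hd, finrank_fin_fun])
  let Q' : QuadraticForm F (Fin d → F) := Q.comp (E.symm : (Fin d → F) →ₗ[F] W)
  have h : ∀ v, Q v = Q' (E v) := fun v => by simp [Q']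
  refine ⟨Q', conjAut E g, E v, nondegenerate_of_equiv E h hQ, (gsum_of_equiv Q Q' E h).symm, fun x => ?_,
    by rwa [rk_conjAut], (orderOf_aff_conjAut E g v).symm ▸ ht⟩
  obtain ⟨w, rfl⟩ := E.surjective x
  rw [conjAut_apply, ← h, ← h, hg]

omit [FiniteDimensional F W] [Fintype W]

/-- A sign of a plane. -/
theorem exists_plane (s : Bool) : ∃ c₀ c₂ : F,
    gsum (trQ F c₀ c₂) = (if s then 1 else -1) * (Fintype.card F : ℤ) := by
  cases s
  · obtain ⟨ζ, hζ⟩ := exists_noroot F
    exact ⟨1, ζ, by rw [gsum_trQ_minus F hζ]; simp⟩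
  · exact ⟨0, 0, by rw [gsum_trQ_plus]; simp⟩

local notation "q" => (Fintype.card F : ℤ)

theorem unipO_one (s : Bool) : UnipO F 2 ((if s then 1 else -1) * q) 1 := by
  obtain ⟨c₀, c₂, hc⟩ := exists_plane (F := F) s
  set P := trQ F c₀ c₂
  obtain ⟨g, v, hg, hgg, -, hv⟩ := exists_refl P (nondegenerate_trQ F _ _) (by simp)
  have h := UnipO.of_space (t := 1) (d := 2) (by simp) P (nondegenerate_trQ F _ _) g hg (by
    refine dvd_of_eq (orderOf_eq_prime_pow (n := 0) (fun h => hv ?_) (LinearEquiv.ext hgg)).symm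
    rw [pow_zero, pow_one] at h
    rw [h]; exact polar_self_zero P v)
  rwa [hc] at h

theorem unipA_one (s : Bool) : UnipA F 2 ((if s then 1 else -1) * q) 1 := by
  obtain ⟨c₀, c₂, hc⟩ := exists_plane (F := F) s
  set P := trQ F c₀ c₂
  have h := UnipA.of_space (t := 1) (d := 2) (by simp) P (nondegenerate_trQ F _ _) 1 (1, 1) (fun x => rfl)
    (by rw [rk_one]; exact Even.zero)
    (two_pow_dvd_orderOf_aff 1 _ 0 (one_pow _) (by simp))
  rwa [hc] at h

theorem unipO_two (s : Bool) : UnipO F 4 ((if s then 1 else -1) * q * q) 2 := by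
  obtain ⟨c₀, c₂, hc⟩ := exists_plane (F := F) s
  set P := trQ F c₀ c₂
  obtain ⟨g, v, hg, hgg, -, hv⟩ := exists_refl P (nondegenerate_trQ F _ _) (by simp)
  have h := UnipO.of_space (t := 2) (d := 4) (by simp) (P.prod (hyp F))
    (nondegenerate_prod (nondegenerate_trQ F _ _) nondegenerate_hyp) (extAut P g v)
    (extAut_isometry P g hg v)
    (two_pow_dvd_orderOf_extAut P g v 1 (LinearEquiv.ext hgg) (fun h => hv (by
      simp [Finset.sum_range_succ] at h
      rw [show g v = v from ((eq_neg_of_add_eq_zero_right h).trans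
        (neg_eq_of_add_eq_zero_right (add_self_zero F v))), polar_self_zero])))
  rwa [gsum_prod, hc, gsum_hyp] at h

theorem unipA_two (s : Bool) : UnipA F 4 ((if s then 1 else -1) * q * q) 2 := by
  obtain ⟨c₀, c₂, hc⟩ := exists_plane (F := F) s
  set P := trQ F c₀ c₂
  obtain ⟨g, v, hg, hgg, hr, hv⟩ := exists_refl P (nondegenerate_trQ F _ _) (by simp)
  obtain ⟨g', v', hg', hgg', hr', -⟩ := exists_refl (hyp F) nondegenerate_hyp (by simp)
  have h := UnipA.of_space (t := 2) (d := 4) (by simp) (P.prod (hyp F))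
    (nondegenerate_prod (nondegenerate_trQ F _ _) nondegenerate_hyp) (g.prodCongr g') (v, 0)
    (fun x => by simp [prod_apply, hg, hg'])
    (by rw [rk_prodCongr, hr, hr']; exact ⟨1, rfl⟩)
    (((two_pow_dvd_orderOf_aff g v 1 (LinearEquiv.ext hgg) (fun h => hv (by
      simp [Finset.sum_range_succ] at h
      rw [show g v = v from ((eq_neg_of_add_eq_zero_right h).trans
        (neg_eq_of_add_eq_zero_right (add_self_zero F v))), polar_self_zero]))).trans
      (Nat.dvd_lcm_left _ _)).trans (lcm_dvd_orderOf_aff g g' v 0))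
  rwa [gsum_prod, hc, gsum_hyp] at h

theorem unipO_three (s : Bool) : UnipO F 6 ((if s then 1 else -1) * q * q * q) 3 := by
  obtain ⟨c₀, c₂, hc⟩ := exists_plane (F := F) s
  set P := trQ F c₀ c₂
  obtain ⟨g, v, hg, hgg, -, hv⟩ := exists_refl P (nondegenerate_trQ F _ _) (by simp)
  obtain ⟨h4, hS⟩ := extAut_involution P g hgg hg v
  have h := UnipO.of_space (t := 3) (d := 6) (by simp) ((P.prod (hyp F)).prod (hyp F))
    (nondegenerate_prod (nondegenerate_prod (nondegenerate_trQ F _ _) nondegenerate_hyp) nondegenerate_hyp)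
    (extAut (P.prod (hyp F)) (extAut P g v) (0, (0, 1)))
    (extAut_isometry _ _ (extAut_isometry P g hg v) _)
    (two_pow_dvd_orderOf_extAut _ _ _ 2 h4 (fun h => hv (by
      rw [hS] at h; exact congrArg (fun z => z.2.1) h)))
  rwa [gsum_prod, gsum_prod, hc, gsum_hyp] at h

theorem unipA_three (s : Bool) : UnipA F 6 ((if s then 1 else -1) * q * q * q) 3 := by
  obtain ⟨c₀, c₂, hc⟩ := exists_plane (F := F) s
  set P := trQ F c₀ c₂
  obtain ⟨g, v, hg, hgg, -, hv⟩ := exists_refl P (nondegenerate_trQ F _ _) (by simp)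
  obtain ⟨g', v', hg', hgg', hr', -⟩ := exists_refl (hyp F) nondegenerate_hyp (by simp)
  obtain ⟨h4, hS⟩ := extAut_involution P g hgg hg v
  obtain ⟨k, hk, hev⟩ : ∃ k : (F × F) ≃ₗ[F] F × F, (∀ x, hyp F (k x) = hyp F x) ∧
      Even (rk (extAut P g v) + rk k) := by
    rcases Nat.even_or_odd (rk (extAut P g v)) with h | h
    · exact ⟨1, fun x => rfl, by rw [rk_one, add_zero]; exact h⟩
    · exact ⟨g', hg', by rw [hr']; exact h.add_one⟩
  have h := UnipA.of_space (t := 3) (d := 6) (by simp) ((P.prod (hyp F)).prod (hyp F))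
    (nondegenerate_prod (nondegenerate_prod (nondegenerate_trQ F _ _) nondegenerate_hyp) nondegenerate_hyp)
    ((extAut P g v).prodCongr k) ((0, (0, 1)), 0)
    (fun x => by
      show (P.prod (hyp F)) (extAut P g v x.1) + hyp F (k x.2) = (P.prod (hyp F)) x.1 + hyp F x.2
      rw [extAut_isometry P g hg v, hk])
    (by rw [rk_prodCongr]; exact hev)
    (((two_pow_dvd_orderOf_aff (extAut P g v) _ 2 h4 (fun h => hv (by
      rw [hS] at h; exact congrArg (fun z => z.2.1) h))).trans (Nat.dvd_lcm_left _ _)).trans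
      (lcm_dvd_orderOf_aff (extAut P g v) k _ 0))
  rwa [gsum_prod, gsum_prod, hc, gsum_hyp] at h

end CfsgLib.SpectrumSp8
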